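import Mathlib

/-!
# Postnikov systems in triangulated categories
-/

set_option autoImplicit false

universe v u

open CategoryTheory CategoryTheory.Limits CategoryTheory.Pretriangulated

namespace PostLib

variable {D : Type u} [Category.{v} D] [Preadditive D] [HasZeroObject D] [HasShift D ℤ]
  [∀ n : ℤ, (shiftFunctor D n).Additive] [Pretriangulated D]

theorem eq_zero_of_shift_eq (W Z : D) (s t : ℤ) (h : s = t)
    (hW : ∀ φ : (shiftFunctor D s).obj W ⟶ Z, φ = 0) :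
    ∀ φ : (shiftFunctor D t).obj W ⟶ Z, φ = 0 := by
  subst h; exact hW

theorem eq_zero_of_iso_src {W W' Z : D} (e : W ≅ W') (h : ∀ φ : W ⟶ Z, φ = 0)
    (φ : W' ⟶ Z) : φ = 0 := by
  rw [← cancel_epi e.hom, comp_zero]; exact h _

variable (Xo : ℕ → D) (Y : ℕ → D) (a : ∀ k, Y k ⟶ Xo k) (b : ∀ k, Xo (k + 1) ⟶ Y k)
  (c : ∀ k, Y k ⟶ (shiftFunctor D (1 : ℤ)).obj (Y (k + 1))) (n : ℕ) (h0 : IsIso (a 0))
  (hP : ∀ k, k < n → Triangle.mk (a (k + 1)) (b k) (c k) ∈ distinguishedTriangles)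

include a b c h0 hP

theorem eq_zero_to_Y : ∀ (j : ℕ), j ≤ n → ∀ (W : D) (s : ℤ),
    (∀ l p : ℕ, p + l = j → ∀ ψ : (shiftFunctor D (s + l)).obj W ⟶ Xo p, ψ = 0) →
    ∀ ψ : (shiftFunctor D s).obj W ⟶ Y j, ψ = 0 := by
  intro j
  induction j with
  | zero =>
    intro _ W s hW ψ
    haveI := h0
    rw [← cancel_mono (a 0), zero_comp]
    exact eq_zero_of_shift_eq W (Xo 0) _ s (by simp) (hW 0 0 rfl) _
  | succ j ih =>
    intro hj W s hW ψ
    have h1 : ψ ≫ a (j + 1) = 0 :=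
      eq_zero_of_shift_eq W (Xo (j + 1)) _ s (by simp) (hW 0 (j + 1) rfl) _
    obtain ⟨χ, hχ⟩ := Triangle.coyoneda_exact₁ _ (hP j hj) ((shiftFunctor D (1 : ℤ)).map ψ)
      (by
        change (shiftFunctor D (1 : ℤ)).map ψ ≫ (shiftFunctor D (1 : ℤ)).map (a (j + 1)) = 0
        rw [← Functor.map_comp, h1, Functor.map_zero])
    have hχ0 : χ = 0 :=
      eq_zero_of_iso_src ((shiftFunctorAdd' D s 1 (s + 1) rfl).app W)
        (ih (by omega) W (s + 1) fun l p hp =>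
          eq_zero_of_shift_eq W (Xo p) _ _ (by push_cast; ring) (hW (l + 1) p (by omega))) χ
    apply (shiftFunctor D (1 : ℤ)).map_injective
    rw [hχ0] at hχ
    exact hχ.trans (zero_comp.trans (Functor.map_zero _ _ _).symm)

theorem eq_zero_of_comp_a (k : ℕ) (hk : k ≤ n) (W : D)
    (hW : ∀ l p : ℕ, p + l + 1 = k → ∀ ψ : (shiftFunctor D (1 + (l : ℤ))).obj W ⟶ Xo p, ψ = 0)
    (ψ : W ⟶ Y k) (hψ : ψ ≫ a k = 0) : ψ = 0 := by
  cases k with
  | zero =>
    haveI := h0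
    rw [← cancel_mono (a 0), hψ, zero_comp]
  | succ j =>
    obtain ⟨χ, hχ⟩ := Triangle.coyoneda_exact₁ _ (hP j hk) ((shiftFunctor D (1 : ℤ)).map ψ)
      (by
        change (shiftFunctor D (1 : ℤ)).map ψ ≫ (shiftFunctor D (1 : ℤ)).map (a (j + 1)) = 0
        rw [← Functor.map_comp, hψ, Functor.map_zero])
    have hχ0 : χ = 0 :=
      eq_zero_to_Y Xo Y a b c n h0 hP j (by omega) W 1 (fun l p hp => hW l p (by omega)) χ
    apply (shiftFunctor D (1 : ℤ)).map_injective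
    rw [hχ0] at hχ
    exact hχ.trans (zero_comp.trans (Functor.map_zero _ _ _).symm)

end PostLib

namespace PostLib

variable {D : Type u} [Category.{v} D] [Preadditive D] [HasZeroObject D] [HasShift D ℤ]
  [∀ n : ℤ, (shiftFunctor D n).Additive] [Pretriangulated D]

section Existence

variable (X : ChainComplex D ℕ)

/-- A partial stage of a Postnikov system. -/
structure Stage (k : ℕ) where
  /-- the object -/
  Y : D
  /-- the map -/
  a : Y ⟶ X.X k

open scoped Classical in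
/-- The lift of the differential, if there is one. -/
noncomputable def bb {k : ℕ} (p : Stage X k) : X.X (k + 1) ⟶ p.Y :=
  if h : ∃ b, b ≫ p.a = X.d (k + 1) k then h.choose else 0

theorem exists_tri {k : ℕ} (p : Stage X k) :
    ∃ (q : Stage X (k + 1)) (c : p.Y ⟶ (shiftFunctor D (1 : ℤ)).obj q.Y),
      Triangle.mk q.a (bb X p) c ∈ distinguishedTriangles := by
  obtain ⟨Z, f, h, hh⟩ := distinguished_cocone_triangle₁ (bb X p)
  exact ⟨⟨Z, f⟩, h, hh⟩

/-- The stages. -/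
noncomputable def stage : ∀ k, Stage X k
  | 0 => ⟨X.X 0, 𝟙 _⟩
  | k + 1 => (exists_tri X (stage k)).choose

theorem exists_postnikov (n : ℕ)
    (hX : ∀ i j : ℕ, j + 2 < i → i ≤ n →
      ∀ φ : (shiftFunctor D ((i : ℤ) - j - 2)).obj (X.X i) ⟶ X.X j, φ = 0) :
    ∃ (Y : ℕ → D) (a : ∀ k, Y k ⟶ X.X k) (b : ∀ k, X.X (k + 1) ⟶ Y k)
      (c : ∀ k, Y k ⟶ (shiftFunctor D (1 : ℤ)).obj (Y (k + 1))),
      IsIso (a 0) ∧ ∀ k, k < n → Triangle.mk (a (k + 1)) (b k) (c k) ∈ distinguishedTriangles ∧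
        b k ≫ a k = X.d (k + 1) k := by
  let Y : ℕ → D := fun k => (stage X k).Y
  let a : ∀ k, Y k ⟶ X.X k := fun k => (stage X k).a
  let b : ∀ k, X.X (k + 1) ⟶ Y k := fun k => bb X (stage X k)
  let c : ∀ k, Y k ⟶ (shiftFunctor D (1 : ℤ)).obj (Y (k + 1)) := fun k =>
    (exists_tri X (stage X k)).choose_spec.choose
  have hT : ∀ k, Triangle.mk (a (k + 1)) (b k) (c k) ∈ distinguishedTriangles := fun k =>
    (exists_tri X (stage X k)).choose_spec.choose_spec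
  have h0 : IsIso (a 0) := inferInstanceAs (IsIso (𝟙 (X.X 0)))
  have hb : ∀ k, k < n → b k ≫ a k = X.d (k + 1) k := by
    intro k
    induction k with
    | zero =>
      intro _
      have h : ∃ β, β ≫ (stage X 0).a = X.d 1 0 := ⟨X.d 1 0, Category.comp_id _⟩
      change bb X (stage X 0) ≫ _ = _
      rw [bb, dif_pos h]
      exact h.choose_spec
    | succ k ih =>
      intro hk
      have h1 : X.d (k + 1 + 1) (k + 1) ≫ b k = 0 := by
        refine eq_zero_of_comp_a X.X Y a b c n h0 (fun j _ => hT j) k (by omega) _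
          (fun l p hp => eq_zero_of_shift_eq _ _ _ _ (by omega)
            (hX (k + 1 + 1) p (by omega) (by omega))) _ ?_
        rw [Category.assoc, ih (by omega), X.d_comp_d]
      obtain ⟨β, hβ⟩ := Triangle.coyoneda_exact₂ _ (hT k) (X.d (k + 1 + 1) (k + 1)) h1
      have h : ∃ β, β ≫ (stage X (k + 1)).a = X.d (k + 1 + 1) (k + 1) := ⟨β, hβ.symm⟩
      change bb X (stage X (k + 1)) ≫ _ = _
      rw [bb, dif_pos h]
      exact h.choose_spec
  exact ⟨Y, a, b, c, h0, fun k hk => ⟨hT k, hb k hk⟩⟩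

end Existence

section Morphism

theorem exists_postnikov_hom (X X' : ChainComplex D ℕ) (φ : X ⟶ X') (n : ℕ)
    (Y : ℕ → D) (a : ∀ k, Y k ⟶ X.X k) (b : ∀ k, X.X (k + 1) ⟶ Y k)
    (c : ∀ k, Y k ⟶ (shiftFunctor D (1 : ℤ)).obj (Y (k + 1)))
    (hP : ∀ k, k < n → Triangle.mk (a (k + 1)) (b k) (c k) ∈ distinguishedTriangles ∧
      b k ≫ a k = X.d (k + 1) k)
    (qY : ℕ → D) (qa : ∀ k, qY k ⟶ X'.X k) (qb : ∀ k, X'.X (k + 1) ⟶ qY k)
    (qc : ∀ k, qY k ⟶ (shiftFunctor D (1 : ℤ)).obj (qY (k + 1)))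
    (qh0 : IsIso (qa 0))
    (qhP : ∀ k, k < n → Triangle.mk (qa (k + 1)) (qb k) (qc k) ∈ distinguishedTriangles ∧
      qb k ≫ qa k = X'.d (k + 1) k)
    (hX : ∀ i j : ℕ, j + 1 < i → i ≤ n →
      ∀ ψ : (shiftFunctor D ((i : ℤ) - j - 1)).obj (X.X i) ⟶ X'.X j, ψ = 0) :
    ∃ y : ∀ k, Y k ⟶ qY k,
      (∀ k, k ≤ n → y k ≫ qa k = a k ≫ φ.f k) ∧
      (∀ k, k < n → b k ≫ y k = φ.f (k + 1) ≫ qb k ∧
        c k ≫ (shiftFunctor D (1 : ℤ)).map (y (k + 1)) = y k ≫ qc k) := by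
  classical
  haveI := qh0
  let y : ∀ k, Y k ⟶ qY k := fun k => Nat.rec (motive := fun k => Y k ⟶ qY k)
    (a 0 ≫ φ.f 0 ≫ inv (qa 0))
    (fun k yk => if h : ∃ y' : Y (k + 1) ⟶ qY (k + 1), a (k + 1) ≫ φ.f (k + 1) = y' ≫ qa (k + 1) ∧
      c k ≫ (shiftFunctor D (1 : ℤ)).map y' = yk ≫ qc k then h.choose else 0) k
  have hbk : ∀ k, k < n → y k ≫ qa k = a k ≫ φ.f k → b k ≫ y k = φ.f (k + 1) ≫ qb k := by
    intro k hk hy
    rw [← sub_eq_zero]
    refine eq_zero_of_comp_a X'.X qY qa qb qc n qh0 (fun j hj => (qhP j hj).1) k hk.le _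
      (fun l p hp => eq_zero_of_shift_eq _ _ _ _ (by omega)
        (hX (k + 1) p (by omega) (by omega))) _ ?_
    rw [Preadditive.sub_comp, Category.assoc, hy, Category.assoc, (qhP k hk).2,
      ← Category.assoc, (hP k hk).2, φ.comm, sub_self]
  have hstep : ∀ k, k < n → y k ≫ qa k = a k ≫ φ.f k →
      a (k + 1) ≫ φ.f (k + 1) = y (k + 1) ≫ qa (k + 1) ∧
        c k ≫ (shiftFunctor D (1 : ℤ)).map (y (k + 1)) = y k ≫ qc k := by
    intro k hk hy
    have h : ∃ y' : Y (k + 1) ⟶ qY (k + 1), a (k + 1) ≫ φ.f (k + 1) = y' ≫ qa (k + 1) ∧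
        c k ≫ (shiftFunctor D (1 : ℤ)).map y' = y k ≫ qc k :=
      complete_distinguished_triangle_morphism₁ _ _ (hP k hk).1 (qhP k hk).1
        (φ.f (k + 1)) (y k) (hbk k hk hy)
    have e : y (k + 1) = h.choose := dif_pos h
    rw [e]
    exact h.choose_spec
  have hy : ∀ k, k ≤ n → y k ≫ qa k = a k ≫ φ.f k := by
    intro k
    induction k with
    | zero =>
      intro _
      change (a 0 ≫ φ.f 0 ≫ inv (qa 0)) ≫ qa 0 = a 0 ≫ φ.f 0
      simp
    | succ k ih => exact fun hk => (hstep k hk (ih (by omega))).1.symm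
  exact ⟨y, hy, fun k hk => ⟨hbk k hk (hy k hk.le), (hstep k hk (hy k hk.le)).2⟩⟩

end Morphism

end PostLib
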