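/-
Vanishing lemmas for morphisms of Postnikov systems in triangulated categories.
-/
import Mathlib.CategoryTheory.Triangulated.Pretriangulated

set_option autoImplicit false
set_option linter.style.haveILetI false

universe v u

open CategoryTheory CategoryTheory.Limits CategoryTheory.Pretriangulated

namespace PostLib

variable {D : Type u} [Category.{v} D] [Preadditive D] [HasZeroObject D] [HasShift D ℤ]
  [∀ n : ℤ, (shiftFunctor D n).Additive] [Pretriangulated D]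

/-- A morphism killed after the connecting morphism factors through the first morphism. -/
lemma exists_factor {A B E W : D} {a : A ⟶ B} {b : B ⟶ E} {c : E ⟶ A⟦(1 : ℤ)⟧}
    (h : Triangle.mk a b c ∈ distinguishedTriangles) (u : A ⟶ W) (hu : c ≫ u⟦(1 : ℤ)⟧' = 0) :
    ∃ g : B ⟶ W, u = a ≫ g := by
  obtain ⟨g, hg⟩ := Triangle.yoneda_exact₂ _ (rot_of_distTriang _ (rot_of_distTriang _ h)) (u⟦(1 : ℤ)⟧') hu
  obtain ⟨g', rfl⟩ := (shiftFunctor D (1 : ℤ)).map_surjective (X := B) g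
  refine ⟨-g', (shiftFunctor D (1 : ℤ)).map_injective (hg.trans ?_)⟩
  simp [Triangle.rotate]
  exact Preadditive.neg_comp _ _

/-- Vanishing of maps out of a shift of the middle term of a triangle. -/
lemma mid_zero_out {T : Triangle D} (hT : T ∈ distinguishedTriangles) (e : ℤ) {W : D}
    (h₁ : ∀ f : T.obj₁⟦e⟧ ⟶ W, f = 0) (h₃ : ∀ f : T.obj₃⟦e⟧ ⟶ W, f = 0) (f : T.obj₂⟦e⟧ ⟶ W) : f = 0 := by
  obtain ⟨g, hg⟩ := Triangle.yoneda_exact₂ _ (Triangle.shift_distinguished _ hT e) f (h₁ _)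
  rw [hg, h₃ g]
  exact comp_zero

/-- Vanishing of maps into a shift of the middle term of a triangle. -/
lemma mid_zero_in {T : Triangle D} (hT : T ∈ distinguishedTriangles) (e : ℤ) {W : D}
    (h₁ : ∀ f : W ⟶ T.obj₁⟦e⟧, f = 0) (h₃ : ∀ f : W ⟶ T.obj₃⟦e⟧, f = 0) (f : W ⟶ T.obj₂⟦e⟧) : f = 0 := by
  obtain ⟨g, hg⟩ := Triangle.coyoneda_exact₂ _ (Triangle.shift_distinguished _ hT e) f (h₃ _)
  rw [hg, h₁ g]
  exact zero_comp

lemma comp_shift_out {A W : D} {p q r : ℤ} (hpq : p + q = r) (h : ∀ f : A⟦r⟧ ⟶ W, f = 0)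
    (f : (A⟦p⟧)⟦q⟧ ⟶ W) : f = 0 := by
  have := h (((shiftFunctorAdd' D p q r hpq).app A).hom ≫ f)
  rw [← cancel_epi ((shiftFunctorAdd' D p q r hpq).app A).hom, comp_zero]
  exact this

lemma comp_shift_in {A W : D} {p q r : ℤ} (hpq : p + q = r) (h : ∀ f : W ⟶ A⟦r⟧, f = 0)
    (f : W ⟶ (A⟦p⟧)⟦q⟧) : f = 0 := by
  have := h (f ≫ ((shiftFunctorAdd' D p q r hpq).app A).inv)
  rw [← cancel_mono ((shiftFunctorAdd' D p q r hpq).app A).inv, zero_comp]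
  exact this

lemma iso_zero_out {A B W : D} (i : A ≅ B) {e : ℤ} (h : ∀ f : B⟦e⟧ ⟶ W, f = 0) (f : A⟦e⟧ ⟶ W) : f = 0 := by
  have := h ((i.inv)⟦e⟧' ≫ f)
  rwa [← cancel_epi ((i.inv)⟦e⟧'), comp_zero]

lemma iso_zero_in {A B W : D} (i : A ≅ B) {e : ℤ} (h : ∀ f : W ⟶ B⟦e⟧, f = 0) (f : W ⟶ A⟦e⟧) : f = 0 := by
  have := h (f ≫ (i.hom)⟦e⟧')
  rwa [← cancel_mono ((i.hom)⟦e⟧'), zero_comp]

end PostLib
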